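import Groth.Agent.DefoConnLib.Torsor
import Groth.Agent.ExtOneLib.Basic

/-!
First order deformations of a module are classified by self extensions.
-/

set_option autoImplicit false
set_option linter.style.haveILetI false

noncomputable section

universe u

open CategoryTheory CategoryTheory.Limits CategoryTheory.Abelian AlgebraicGeometry
open scoped TensorProduct

namespace DefoConnLib

variable {k : Type u} [Field k] {X : Scheme.{u}} [X.Over (Spec (CommRingCat.of k))] {E : X.Modules}

theorem eps_smul_mem {N : Type u} [AddCommGroup N] [Module (ArtFun.Art.dual k k : ArtFun.Art k k).carrier N] (w : N) :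
    dualEps k • w ∈ IsLocalRing.maximalIdeal (ArtFun.Art.dual k k : ArtFun.Art k k).carrier •
      (⊤ : Submodule (ArtFun.Art.dual k k : ArtFun.Art k k).carrier N) := by
  refine Submodule.smul_mem_smul ?_ Submodule.mem_top
  show ¬ IsUnit (DualNumber.eps : DualNumber k)
  rw [TrivSqZeroExt.isUnit_iff_isUnit_fst]
  simp

theorem dual_mul_eps (c : DualNumber k) (h : TrivSqZeroExt.fst c = 0) : c * DualNumber.eps = 0 := by
  ext <;> simp [h]

/-- A module over the dual numbers on which the kernel of `ε` is its image is flat. -/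
theorem flat_of_ann {N : Type u} [AddCommGroup N] [Module (ArtFun.Art.dual k k : ArtFun.Art k k).carrier N]
    (h : ∀ v : N, dualEps k • v = 0 → ∃ w, v = dualEps k • w) :
    Module.Flat (ArtFun.Art.dual k k : ArtFun.Art k k).carrier N := by
  refine Module.Flat.iff_rTensor_injective'.2 fun I => ?_
  by_cases hI : I = ⊤
  · subst hI
    intro a b hab
    have : Function.Injective (LinearMap.rTensor N
        (LinearEquiv.ofTop (⊤ : Ideal (ArtFun.Art.dual k k : ArtFun.Art k k).carrier) rfl).toLinearMap) :=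
      (LinearEquiv.rTensor N _).injective
    exact this hab
  have hmem : ∀ a ∈ I, ∃ c, a = c * dualEps k := fun a ha =>
    ⟨_, (dual_nonunit a fun hu => hI (I.eq_top_of_isUnit_mem ha hu)).trans (mul_comm _ _)⟩
  by_cases hε : dualEps k ∈ I
  · refine (injective_iff_map_eq_zero _).2 fun t ht => ?_
    obtain ⟨n, rfl⟩ : ∃ n : N, t = (⟨dualEps k, hε⟩ : I) ⊗ₜ n := by
      clear ht
      induction t with
      | zero => exact ⟨0, by rw [TensorProduct.tmul_zero]⟩
      | tmul a n =>
        obtain ⟨c, hc⟩ := hmem a a.2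
        refine ⟨c • n, ?_⟩
        rw [← TensorProduct.smul_tmul]
        congr 1
        exact Subtype.ext hc
      | add p q hp hq =>
        obtain ⟨a, rfl⟩ := hp
        obtain ⟨b, rfl⟩ := hq
        exact ⟨a + b, by rw [TensorProduct.tmul_add]⟩
    have h0 : dualEps k • n = 0 := by
      have := congrArg (TensorProduct.lid (ArtFun.Art.dual k k : ArtFun.Art k k).carrier N) ht
      simpa using this
    obtain ⟨w, rfl⟩ := h n h0
    rw [← TensorProduct.smul_tmul, show dualEps k • (⟨dualEps k, hε⟩ : I) = 0 from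
      Subtype.ext (DualNumber.eps_mul_eps (R := k)), TensorProduct.zero_tmul]
  · have hb : I = ⊥ := by
      refine eq_bot_iff.2 fun a ha => ?_
      obtain ⟨c, rfl⟩ := hmem a ha
      by_contra hne
      have hs : TrivSqZeroExt.fst (c : DualNumber k) ≠ 0 := fun h0 => hne (dual_mul_eps _ h0)
      have hu : IsUnit c := TrivSqZeroExt.isUnit_iff_isUnit_fst.2 (isUnit_iff_ne_zero.2 hs)
      exact hε ((I.unit_mul_mem_iff_mem hu).1 ha)
    subst hb
    intro a b _
    exact Subsingleton.elim a b

omit [X.Over (Spec (CommRingCat.of k))] in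
theorem hom_ext_stalks {A B : X.Modules} {f g : A ⟶ B}
    (h : ∀ x v, RefHull.stalkMapₗ f x v = RefHull.stalkMapₗ g x v) : f = g := by
  refine Scheme.Modules.hom_ext _ _ fun U => ConcreteCategory.hom_ext _ _ fun t => ?_
  refine TopCat.Presheaf.section_ext (Coh.toAb B : TopCat.Sheaf AddCommGrpCat.{u} X.toTopCat) U _ _ fun x hx => ?_
  exact (RefHull.stalkMapₗ_germ f x hx t).symm.trans ((h x _).trans (RefHull.stalkMapₗ_germ g x hx t))

variable (D : DefoSh.Defo E (ArtFun.Art.dual k k))

theorem exists_ι : ∃ ι : E ⟶ D.sheaf, D.π ≫ ι = epsHom D := by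
  haveI := epi_π D
  have h0 : kernel.ι D.π ≫ epsHom D = 0 := by
    refine hom_ext_stalks fun x v => ?_
    letI := DefoSh.stalkModule D.sheaf D.act.toRingHom x
    rw [DefoSh.stalkMapₗ_comp_apply, DefoSh.stalkMapₗ_zero_apply]
    obtain ⟨w, hw⟩ := exists_of_mem_max (D.ker_le x (RefHull.stalkMapₗ (kernel.ι D.π) x v) (by
      rw [← DefoSh.stalkMapₗ_comp_apply, kernel.condition, DefoSh.stalkMapₗ_zero_apply]))
    show (dualEps k) • RefHull.stalkMapₗ (kernel.ι D.π) x v = 0
    rw [hw, smul_smul, show dualEps k * dualEps k = 0 from DualNumber.eps_mul_eps (R := k), zero_smul]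
  exact ⟨(CokernelCofork.IsColimit.desc' (Abelian.epiIsCokernelOfKernel _ (kernelIsKernel D.π))
    (epsHom D) h0).1, (CokernelCofork.IsColimit.desc' (Abelian.epiIsCokernelOfKernel _ (kernelIsKernel D.π))
    (epsHom D) h0).2⟩

/-- Multiplication by `ε` from the reduction. -/
def iota : E ⟶ D.sheaf := (exists_ι D).choose

theorem π_iota : D.π ≫ iota D = epsHom D := (exists_ι D).choose_spec

variable [HasExt.{u} X.Modules]

/-- The extension class of a deformation. -/
def classOf : Ext E E 1 := (seq_shortExact D (π_iota D)).extClass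

theorem classOf_eq (i : E ⟶ D.sheaf) (hi : D.π ≫ i = epsHom D) (h0 : i ≫ D.π = 0)
    (hS : (ShortComplex.mk i D.π h0).ShortExact) : classOf D = hS.extClass := by
  haveI := epi_π D
  obtain rfl : i = iota D := (cancel_epi D.π).1 (hi.trans (π_iota D).symm)
  rfl

variable {D}

theorem classOf_congr {D' : DefoSh.Defo E (ArtFun.Art.dual k k)} (e : DefoSh.Defo.Iso D D') :
    classOf D = classOf D' := by
  haveI := epi_π D
  have h₁ : iota D ≫ e.iso.hom = iota D' := by
    rw [← cancel_epi D.π, ← Category.assoc, π_iota, show epsHom D ≫ e.iso.hom = e.iso.hom ≫ epsHom D' from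
      e.act_hom _, ← π_iota D', reassoc_of% e.hom_π]
  have := ShortComplex.ShortExact.extClass_naturality (seq_shortExact D (π_iota D)) (seq_shortExact D' (π_iota D'))
    (ShortComplex.homMk (S₁ := ShortComplex.mk (iota D) D.π (ι_π D (π_iota D)))
      (S₂ := ShortComplex.mk (iota D') D'.π (ι_π D' (π_iota D'))) (𝟙 E) e.iso.hom (𝟙 E)
      ((Category.id_comp _).trans h₁.symm) (e.hom_π.trans (Category.comp_id _).symm))
  simp only [ShortComplex.homMk_τ₁, ShortComplex.homMk_τ₃] at this
  exact (Ext.comp_mk₀_id _).symm.trans (this.trans (Ext.mk₀_id_comp _))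

theorem iso_of_classOf {D' : DefoSh.Defo E (ArtFun.Art.dual k k)} (h : classOf D = classOf D') :
    Nonempty (DefoSh.Defo.Iso D D') := by
  obtain ⟨p, h₁, h₂⟩ := ExtOneLib.exists_hom_of_extClass (seq_shortExact D (π_iota D))
    (seq_shortExact D' (π_iota D')) (𝟙 E) (by rw [Ext.comp_mk₀_id]; exact h)
  rw [Category.id_comp] at h₁
  let φ := ShortComplex.homMk (S₁ := ShortComplex.mk (iota D) D.π (ι_π D (π_iota D)))
      (S₂ := ShortComplex.mk (iota D') D'.π (ι_π D' (π_iota D'))) (𝟙 E) p (𝟙 E)
      ((Category.id_comp _).trans h₁.symm) (h₂.trans (Category.comp_id _).symm)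
  haveI : IsIso φ.τ₁ := inferInstanceAs (IsIso (𝟙 E))
  haveI : IsIso φ.τ₃ := inferInstanceAs (IsIso (𝟙 E))
  haveI : IsIso p := ShortComplex.isIso₂_of_shortExact_of_isIso₁₃ φ (seq_shortExact D (π_iota D))
    (seq_shortExact D' (π_iota D'))
  refine ⟨⟨asIso p, fun z => ?_, h₂⟩⟩
  show D.act z ≫ p = p ≫ D'.act z
  rw [act_eq D z, act_eq D' z]
  have hε : epsHom D ≫ p = p ≫ epsHom D' := by
    rw [← π_iota D, ← π_iota D', Category.assoc, h₁, ← Category.assoc, h₂]
  simp only [Preadditive.add_comp, Preadditive.comp_add, Linear.smul_comp, Linear.comp_smul,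
    Category.id_comp, Category.comp_id, hε]

theorem exists_defo (y : Ext E E 1) : ∃ D : DefoSh.Defo E (ArtFun.Art.dual k k), classOf D = y := by
  obtain ⟨M, i, q, w, hS, rfl⟩ := ExtOneLib.exists_extension y
  let ε' : End M := q ≫ i
  have h2 : ε' * ε' = 0 := by
    show (q ≫ i) ≫ q ≫ i = 0
    rw [Category.assoc, reassoc_of% w, zero_comp, comp_zero]
  let act : DualNumber k →ₐ[k] End M := DualNumber.lift ⟨(Algebra.ofId k (End M), ε'),
    h2, fun a => (Algebra.commutes a ε').symm⟩
  have hact : ∀ z : DualNumber k, act z = z.fst • (1 : End M) + z.snd • ε' := fun z => by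
    change algebraMap k (End M) z.fst + algebraMap k (End M) z.snd * ε' = _
    rw [Algebra.algebraMap_eq_smul_one, Algebra.algebraMap_eq_smul_one, smul_mul_assoc, one_mul]
  have heps : act DualNumber.eps = q ≫ i := by
    rw [hact]
    simp [ε']
  have hq : ∀ x, Function.Surjective (RefHull.stalkMapₗ q x) := fun x v => by
    haveI := (hS.map_of_exact (DerSch.stalkFunctor X x)).epi_g
    obtain ⟨u, hu⟩ := (ModuleCat.epi_iff_surjective ((DerSch.stalkFunctor X x).map q)).1 this v
    exact ⟨u, (stalk_map_eq q x u).symm.trans hu⟩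
  have hi : ∀ x, Function.Injective (RefHull.stalkMapₗ i x) := fun x a b hab => by
    haveI := (hS.map_of_exact (DerSch.stalkFunctor X x)).mono_f
    exact (ModuleCat.mono_iff_injective ((DerSch.stalkFunctor X x).map i)).1 this
      ((stalk_map_eq i x a).trans (hab.trans (stalk_map_eq i x b).symm))
  have hex : ∀ x (v : ↑(M.presheaf.stalk x)), RefHull.stalkMapₗ q x v = 0 → ∃ w, v = RefHull.stalkMapₗ (q ≫ i) x w := by
    intro x v hv
    obtain ⟨u, hu⟩ := ((ShortComplex.ShortExact.moduleCat_exact_iff_function_exact _).1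
      (hS.map_of_exact (DerSch.stalkFunctor X x)).exact v).1 ((stalk_map_eq q x v).trans hv)
    obtain ⟨w', rfl⟩ := hq x u
    refine ⟨w', ?_⟩
    rw [DefoSh.stalkMapₗ_comp_apply]
    exact hu.symm.trans (stalk_map_eq i x _)
  let D : DefoSh.Defo E (ArtFun.Art.dual k k) :=
    { sheaf := M
      act := act
      π := q
      act_π := fun a ha => by
        have h0 : TrivSqZeroExt.fst (a : DualNumber k) = 0 := ha
        refine (congrArg (fun f : M ⟶ M => f ≫ q) (hact a)).trans ?_
        rw [h0, zero_smul, zero_add]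
        show (TrivSqZeroExt.snd (a : DualNumber k) • (q ≫ i)) ≫ q = 0
        rw [Linear.smul_comp, Category.assoc, w, comp_zero, smul_zero]
      surj := hq
      ker_le := fun x v hv => by
        obtain ⟨w', rfl⟩ := hex x v hv
        rw [← heps]
        exact @eps_smul_mem k _ _ _ (DefoSh.stalkModule M act.toRingHom x) w'
      flat := fun x => by
        letI := DefoSh.stalkModule M act.toRingHom x
        refine @flat_of_ann k _ _ _ (DefoSh.stalkModule M act.toRingHom x) fun v hv => ?_
        have hv' : RefHull.stalkMapₗ (q ≫ i) x v = 0 := by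
          rw [← heps]
          exact hv
        rw [DefoSh.stalkMapₗ_comp_apply] at hv'
        obtain ⟨w', rfl⟩ := hex x v (hi x (hv'.trans (map_zero _).symm))
        exact ⟨w', by rw [← heps]; rfl⟩ }
  exact ⟨D, classOf_eq D i heps.symm w hS⟩

theorem classOf_trivDual : classOf (DefoSh.Defo.trivDual k E) = 0 := by
  have hi : (DefoSh.Defo.trivDual k E).π ≫ (biprod.inr : E ⟶ E ⊞ E) = epsHom (DefoSh.Defo.trivDual k E) :=
    (DefoSh.dualAct_eps E).symm
  have h0 : (biprod.inr : E ⟶ E ⊞ E) ≫ (DefoSh.Defo.trivDual k E).π = 0 := biprod.inr_fst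
  have hS := seq_shortExact (DefoSh.Defo.trivDual k E) hi
  rw [classOf_eq _ _ hi h0 hS]
  have h1 : hS.extClass.comp (Ext.mk₀ (biprod.inr : E ⟶ E ⊞ E)) (add_zero 1) = 0 := hS.extClass_comp
  have h2 := congrArg (fun z => Ext.comp z (Ext.mk₀ (biprod.snd : E ⊞ E ⟶ E)) (add_zero 1)) h1
  simp only [Ext.comp_assoc_of_second_deg_zero, Ext.zero_comp, Ext.mk₀_comp_mk₀, biprod.inr_snd] at h2
  exact (Ext.comp_mk₀_id _).symm.trans h2

/-- First order deformations are self extensions. -/
theorem exists_equiv_ext : ∃ e : DefoSh.FirstOrder k E ≃ Ext E E 1,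
      e (DefoSh.Defo.trivDual k E).cl = 0 ∧
      ∀ (D : DefoSh.Defo E (ArtFun.Art.dual k k)) (i : E ⟶ D.sheaf)
        (_ : D.π ≫ i = D.act (DualNumber.eps : DualNumber k))
        (h0 : i ≫ D.π = 0) (hS : (ShortComplex.mk i D.π h0).ShortExact),
        e D.cl = hS.extClass := by
  let F : DefoSh.FirstOrder k E → Ext E E 1 :=
    Quotient.lift (fun D => classOf D) fun D D' ⟨e⟩ => classOf_congr e
  refine ⟨Equiv.ofBijective F ⟨?_, fun y => ?_⟩, classOf_trivDual, fun D i hi h0 hS => classOf_eq D i hi h0 hS⟩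
  · rintro ⟨D⟩ ⟨D'⟩ h
    exact Quotient.sound (iso_of_classOf h)
  · obtain ⟨D, hD⟩ := exists_defo (k := k) y
    exact ⟨D.cl, hD⟩

end DefoConnLib
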