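import Groth.Agent.DefoConnLib.Triv
import Groth.Agent.DefoIsoLib.Basic
import Groth.Agent.KFlatLib.StalkTensor
import Groth.Agent.VBResLib.KPull
import Groth.Agent.DefLib.ArtFlat
import Groth.Agent.ModSiteLib.Colimits

/-!
Deformations of a connection over a first order deformation form a torsor.
-/

set_option autoImplicit false
set_option linter.style.haveILetI false

noncomputable section

universe u

open CategoryTheory CategoryTheory.Limits AlgebraicGeometry Opposite ConnSh TopologicalSpace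
open scoped TensorProduct

namespace DefoConnLib

variable {k : Type u} [Field k] {X : Scheme.{u}} [X.Over (Spec (CommRingCat.of k))]

omit [X.Over (Spec (CommRingCat.of k))] in
/-- A morphism of modules as a morphism of abelian sheaves. -/
def tA {A B : X.Modules} (f : A ⟶ B) : Coh.toAb A ⟶ Coh.toAb B := (SheafOfModules.toSheaf (Scheme.ringCatSheaf X)).map f

omit [X.Over (Spec (CommRingCat.of k))] in
/-- An additive morphism which is linear on sections, as a morphism of modules. -/
def linHom {M N : X.Modules} (φ : Coh.toAb M ⟶ Coh.toAb N)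
    (h : ∀ (U : X.Opens) (t : Γ(X, U)) (x : M.val.obj (op U)), secApp φ U (t • x) = t • secApp φ U x) : M ⟶ N :=
  ⟨PresheafOfModules.homMk φ.hom (fun U r x => h U.unop r x)⟩

omit [X.Over (Spec (CommRingCat.of k))] in
theorem map_linHom {M N : X.Modules} (φ : Coh.toAb M ⟶ Coh.toAb N)
    (h : ∀ (U : X.Opens) (t : Γ(X, U)) (x : M.val.obj (op U)), secApp φ U (t • x) = t • secApp φ U x) :
    tA (linHom φ h) = φ := rfl

omit [X.Over (Spec (CommRingCat.of k))] in
theorem secApp_map {M N : X.Modules} (φ : M ⟶ N) (U : X.Opens) (x : M.val.obj (op U)) :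
    secApp (tA φ) U x = φ.app U x := rfl

omit [X.Over (Spec (CommRingCat.of k))] in
theorem abHom_ext {M N : X.Modules} {φ ψ : Coh.toAb M ⟶ Coh.toAb N}
    (h : ∀ (U : X.Opens) (x : M.val.obj (op U)), secApp φ U x = secApp ψ U x) : φ = ψ := by
  apply Sheaf.hom_ext
  ext U x
  exact h U.unop x

variable {Ω' : X.Modules}

/-- Shorthand for `φ ⊗ 1`. -/
abbrev tM {A B : X.Modules} (φ : A ⟶ B) : CohB1.tensorMod A Ω' ⟶ CohB1.tensorMod B Ω' :=
  KoszTw.tensorMap φ (𝟙 Ω')

omit [X.Over (Spec (CommRingCat.of k))] in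
theorem tM_comp {A B C : X.Modules} (φ : A ⟶ B) (ψ : B ⟶ C) :
    tM (Ω' := Ω') (φ ≫ ψ) = tM φ ≫ tM ψ := by
  rw [← KoszTw.tensorMap_comp, Category.comp_id]

omit [X.Over (Spec (CommRingCat.of k))] in
theorem horiz_iff {A B : X.Modules} {a : Coh.toAb A ⟶ Coh.toAb (CohB1.tensorMod A Ω')}
    {b : Coh.toAb B ⟶ Coh.toAb (CohB1.tensorMod B Ω')} (φ : A ⟶ B) :
    IsHorizontal a b φ ↔ tA φ ≫ b = a ≫ tA (tM φ) := by
  refine ⟨fun h => abHom_ext h, fun h U e => ?_⟩
  exact congrArg (fun z : Coh.toAb A ⟶ Coh.toAb (CohB1.tensorMod B Ω') => secApp z U e) h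

omit [X.Over (Spec (CommRingCat.of k))] in
theorem T_comp {A B C : X.Modules} (f : A ⟶ B) (g : B ⟶ C) :
    tA (f ≫ g) = tA f ≫ tA g := (SheafOfModules.toSheaf (Scheme.ringCatSheaf X)).map_comp f g

omit [X.Over (Spec (CommRingCat.of k))] in
theorem T_add {A B : X.Modules} (f g : A ⟶ B) :
    tA (f + g) = tA f + tA g := (SheafOfModules.toSheaf (Scheme.ringCatSheaf X)).map_add

omit [X.Over (Spec (CommRingCat.of k))] in
theorem T_zero (A B : X.Modules) : tA (0 : A ⟶ B) = 0 := (SheafOfModules.toSheaf (Scheme.ringCatSheaf X)).map_zero A B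

omit [X.Over (Spec (CommRingCat.of k))] in
theorem T_id (A : X.Modules) : tA (𝟙 A) = 𝟙 _ := (SheafOfModules.toSheaf (Scheme.ringCatSheaf X)).map_id A

omit [X.Over (Spec (CommRingCat.of k))] in
theorem T_inj {A B : X.Modules} {f g : A ⟶ B} (h : tA f = tA g) : f = g :=
  (SheafOfModules.toSheaf (Scheme.ringCatSheaf X)).map_injective h

theorem pcolim {C : Type u} [SmallCategory C] {J : GrothendieckTopology C} (R : Sheaf J RingCat.{u}) :
    PreservesFiniteColimits (SheafOfModules.toSheaf.{u} R) := inferInstance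

omit [X.Over (Spec (CommRingCat.of k))] in
theorem T_epi {A B : X.Modules} (f : A ⟶ B) [Epi f] : Epi (tA f) :=
  haveI : PreservesFiniteColimits (SheafOfModules.toSheaf.{u} (Scheme.ringCatSheaf X)) := pcolim _
  @Functor.map_epi _ _ _ _ (SheafOfModules.toSheaf.{u} (Scheme.ringCatSheaf X)) inferInstance _ _ f ‹_›

omit [X.Over (Spec (CommRingCat.of k))] in
theorem epi_of_stalks {A B : X.Modules} (u : A ⟶ B)
    (h : ∀ x, Epi ((DerSch.stalkFunctor X x).map u)) : Epi u := by
  rw [Preadditive.epi_iff_isZero_cokernel, KFlatLib.isZero_iff_forall_stalk]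
  intro x
  have := h x
  exact (isZero_cokernel_of_epi _).of_iso (PreservesCokernel.iso (DerSch.stalkFunctor X x) u)

variable (k) in
/-- `ε` in `k[ε]`. -/
abbrev dualEps : (ArtFun.Art.dual k k : ArtFun.Art k k).carrier := (DualNumber.eps : DualNumber k)

variable {E : X.Modules} (D : DefoSh.Defo E (ArtFun.Art.dual k k))

/-- The endomorphism `ε`. -/
abbrev epsHom : D.sheaf ⟶ D.sheaf := D.act (dualEps k)

theorem eps_π : epsHom D ≫ D.π = 0 := D.act_π _ (TrivSqZeroExt.fst_inr (R := k) (M := k) 1)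

theorem act_eq (z : DualNumber k) :
    (D.act z : D.sheaf ⟶ D.sheaf) = z.fst • 𝟙 D.sheaf + z.snd • epsHom D := by
  have hz : (z : DualNumber k) = z.fst • (1 : DualNumber k) + z.snd • DualNumber.eps := by
    ext <;> simp
  conv_lhs => rw [hz]
  erw [map_add, map_smul, map_smul, map_one]
  rfl

variable {ι : E ⟶ D.sheaf} (hι : D.π ≫ ι = epsHom D)

theorem epi_π : Epi D.π := by
  refine epi_of_stalks _ fun x => (ModuleCat.epi_iff_surjective _).2 fun v => ?_
  obtain ⟨w, hw⟩ := D.surj x v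
  refine ⟨w, ?_⟩
  obtain ⟨W, hxW, s, rfl⟩ := TopCat.Presheaf.germ_exist D.sheaf.presheaf w
  exact ((DerSch.stalkFunctor_map_germ x D.π W hxW s).trans (RefHull.stalkMapₗ_germ _ _ _ _).symm).trans hw

theorem stalk_map_eq {A B : X.Modules} (φ : A ⟶ B) (x : X) (v : ↑(A.presheaf.stalk x)) :
    (DerSch.stalkFunctor X x).map φ v = RefHull.stalkMapₗ φ x v := by
  obtain ⟨W, hxW, s, rfl⟩ := TopCat.Presheaf.germ_exist A.presheaf v
  exact (DerSch.stalkFunctor_map_germ x φ W hxW s).trans (RefHull.stalkMapₗ_germ _ _ _ _).symm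

include hι in
theorem ι_π : ι ≫ D.π = 0 := by
  haveI := epi_π D
  rw [← cancel_epi D.π, ← Category.assoc, hι, eps_π, comp_zero]

theorem dual_ann (a : DualNumber k) (h : (DualNumber.eps : DualNumber k) * a = 0) :
    a = (DualNumber.eps : DualNumber k) * TrivSqZeroExt.inl (TrivSqZeroExt.snd a) := by
  have h1 : TrivSqZeroExt.fst a = 0 := by
    simpa using congrArg TrivSqZeroExt.snd h
  ext <;> simp [h1]

theorem dual_nonunit (a : DualNumber k) (h : ¬ IsUnit a) :
    a = (DualNumber.eps : DualNumber k) * TrivSqZeroExt.inl (TrivSqZeroExt.snd a) := by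
  have h1 : TrivSqZeroExt.fst a = 0 := by
    by_contra hne
    exact h (TrivSqZeroExt.isUnit_iff_isUnit_fst.2 (isUnit_iff_ne_zero.2 hne))
  ext <;> simp [h1]

theorem exists_of_mem_max {N : Type u} [AddCommGroup N] [Module (ArtFun.Art.dual k k : ArtFun.Art k k).carrier N] {v : N}
    (hm : v ∈ IsLocalRing.maximalIdeal (ArtFun.Art.dual k k : ArtFun.Art k k).carrier •
      (⊤ : Submodule (ArtFun.Art.dual k k : ArtFun.Art k k).carrier N)) :
    ∃ w, v = dualEps k • w := by
  refine Submodule.smul_induction_on hm (fun a ha m _ => ?_)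
    (fun p q ⟨w, hw⟩ ⟨w', hw'⟩ => ⟨w + w', by rw [hw, hw', smul_add]⟩)
  obtain ⟨c, hc⟩ : ∃ c : (ArtFun.Art.dual k k : ArtFun.Art k k).carrier, a = dualEps k * c :=
    ⟨_, dual_nonunit a ha⟩
  exact ⟨c • m, by rw [hc, mul_smul]⟩

theorem exists_of_ann {N : Type u} [AddCommGroup N] [Module (ArtFun.Art.dual k k : ArtFun.Art k k).carrier N]
    [Module.Free (ArtFun.Art.dual k k : ArtFun.Art k k).carrier N] {v : N} (hv : dualEps k • v = 0) :
    ∃ w, v = dualEps k • w := by
  let b := Module.Free.chooseBasis (ArtFun.Art.dual k k : ArtFun.Art k k).carrier N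
  have hc : ∀ i, ∃ c : (ArtFun.Art.dual k k : ArtFun.Art k k).carrier, b.repr v i = dualEps k * c := by
    intro i
    have h0 : dualEps k * b.repr v i = 0 := by
      rw [← smul_eq_mul, ← Finsupp.smul_apply, ← map_smul, hv, map_zero, Finsupp.zero_apply]
    exact ⟨_, dual_ann _ h0⟩
  choose c hc using hc
  refine ⟨∑ i ∈ (b.repr v).support, c i • b i, ?_⟩
  conv_lhs => rw [← b.linearCombination_repr v]
  rw [Finsupp.linearCombination_apply, Finsupp.sum, Finset.smul_sum]
  exact Finset.sum_congr rfl fun i _ => by rw [hc i, mul_smul]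

include hι in
theorem seq_shortExact : (ShortComplex.mk ι D.π (ι_π D hι)).ShortExact := by
  refine CurvLib.shortExact_of_stalks _ fun x => ?_
  let A := ArtFun.Art.dual k k
  letI := DefoSh.stalkModule D.sheaf D.act.toRingHom x
  haveI : Module.Flat A ↑(D.sheaf.presheaf.stalk x) := D.flat x
  haveI : Module.Free A ↑(D.sheaf.presheaf.stalk x) :=
    DefLib.free_of_flat_of_nilpotent ((isArtinianRing_iff_isNilpotent_maximalIdeal _).1 A.isArtinianRing)
  have hact : ∀ v : ↑(D.sheaf.presheaf.stalk x),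
      RefHull.stalkMapₗ ι x (RefHull.stalkMapₗ D.π x v) = dualEps k • v := fun v => by
    rw [← DefoSh.stalkMapₗ_comp_apply, hι]
    rfl
  have hπe : ∀ w, RefHull.stalkMapₗ D.π x (dualEps k • w) = 0 := fun w => by
    show RefHull.stalkMapₗ D.π x (RefHull.stalkMapₗ (epsHom D) x w) = 0
    rw [← DefoSh.stalkMapₗ_comp_apply, eps_π, DefoSh.stalkMapₗ_zero_apply]
  have hker : ∀ v : ↑(D.sheaf.presheaf.stalk x), RefHull.stalkMapₗ D.π x v = 0 → ∃ w, v = dualEps k • w :=
    fun v hv => exists_of_mem_max (D.ker_le x v hv)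
  refine
    { exact := ?_
      mono_f := (ModuleCat.mono_iff_injective _).2 ?_
      epi_g := (ModuleCat.epi_iff_surjective _).2 ?_ }
  · refine (ShortComplex.ShortExact.moduleCat_exact_iff_function_exact _).2 fun v => ⟨fun hv => ?_, ?_⟩
    · have hv' : RefHull.stalkMapₗ D.π x v = 0 := (stalk_map_eq D.π x v).symm.trans hv
      obtain ⟨w, hw⟩ := hker v hv'
      refine ⟨RefHull.stalkMapₗ D.π x w, ?_⟩
      exact ((stalk_map_eq ι x _).trans (hact w)).trans hw.symm
    · rintro ⟨u, rfl⟩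
      obtain ⟨w, rfl⟩ := D.surj x u
      refine (stalk_map_eq D.π x _).trans ?_
      exact (congrArg (RefHull.stalkMapₗ D.π x) ((stalk_map_eq ι x _).trans (hact w))).trans (hπe w)
  · refine (injective_iff_map_eq_zero _).2 fun u hu => ?_
    obtain ⟨v, rfl⟩ := D.surj x u
    have : dualEps k • v = (0 : ↑(D.sheaf.presheaf.stalk x)) := by
      rw [← hact]
      exact (stalk_map_eq ι x _).symm.trans hu
    obtain ⟨w, rfl⟩ := exists_of_ann this
    exact hπe w
  · intro u
    obtain ⟨v, hv⟩ := D.surj x u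
    exact ⟨v, (stalk_map_eq D.π x v).trans hv⟩

omit [X.Over (Spec (CommRingCat.of k))] in
/-- Tensoring preserves short exactness when the quotient is locally free. -/
theorem shortExact_tensor_left {S : ShortComplex X.Modules} (hS : S.ShortExact)
    (h₃ : FlatMod.IsFinLocFree S.X₃) (N : X.Modules) : (S.map (DCoh.tensorRightMod N)).ShortExact := by
  refine CurvLib.shortExact_of_stalks _ fun x => ?_
  let St' := DerSch.stalkFunctor X x
  haveI : Module.Free (X.presheaf.stalk x) (St'.obj S.X₃) := MiscFlat6.free_stalk_of_isFinLocFree h₃ x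
  haveI : Projective (S.map St').X₃ :=
    (IsProjective.iff_projective (R := X.presheaf.stalk x) (St'.obj S.X₃)).1 inferInstance
  have σ := (hS.map_of_exact St').splittingOfProjective
  refine ShortComplex.shortExact_of_iso ?_ (σ.map (MonoidalCategory.tensorRight (St'.obj N))).shortExact
  exact ShortComplex.isoMk (KFlatLib.stalkTensorIso S.X₁ N x) (KFlatLib.stalkTensorIso S.X₂ N x)
    (KFlatLib.stalkTensorIso S.X₃ N x)
    (KFlatLib.stalkTensorIso_natural_left (N := N) x S.f).symm
    (KFlatLib.stalkTensorIso_natural_left (N := N) x S.g).symm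

include hι in
theorem tensor_seq (hE : FlatMod.IsFinLocFree E) (w : tM (Ω' := Ω') ι ≫ tM D.π = 0) :
    (ShortComplex.mk (tM (Ω' := Ω') ι) (tM D.π) w).ShortExact := by
  refine ShortComplex.shortExact_of_iso ?_ (shortExact_tensor_left (seq_shortExact D hι) hE Ω')
  exact ShortComplex.isoMk (Iso.refl _) (Iso.refl _) (Iso.refl _)
    ((Category.id_comp _).trans ((Category.comp_id _).trans (KoszTw.tensorRightMod_map ι Ω')).symm)
    ((Category.id_comp _).trans ((Category.comp_id _).trans (KoszTw.tensorRightMod_map D.π Ω')).symm)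

theorem tM_zero {A B : X.Modules} : tM (Ω' := Ω') (0 : A ⟶ B) = 0 := tensorMap_zero_left

theorem tM_add {A B : X.Modules} (f g : A ⟶ B) : tM (Ω' := Ω') (f + g) = tM f + tM g := tensorMap_add_left f g

variable {δ : OmegaSh.Der (X ↘ Spec (CommRingCat.of k)) Ω'}
  {nabla : Coh.toAb E ⟶ Coh.toAb (CohB1.tensorMod E Ω')}

include hι in
/-- The connection on the deformation restricts to the connection along `ι`. -/
theorem ι_horizontal (c : DefoSh.DefoConn δ nabla D) :
    tA ι ≫ c.conn = nabla ≫ tA (tM ι) := by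
  haveI := epi_π D
  haveI : Epi (tA D.π) := T_epi _
  rw [← cancel_epi (tA D.π), ← Category.assoc, ← T_comp, hι]
  rw [(horiz_iff (epsHom D)).1 (c.act_horizontal _), show tM (Ω' := Ω') (epsHom D) = tM D.π ≫ tM ι from by rw [← tM_comp, hι],
    T_comp, ← Category.assoc, ← (horiz_iff D.π).1 c.π_horizontal, Category.assoc]

/-- The map from `Hom(E, E ⊗ Ω)` to morphisms of sheaves on the deformation. -/
abbrev shiftBy (ι : E ⟶ D.sheaf) (Φ : E ⟶ CohB1.tensorMod E Ω') :
    Coh.toAb D.sheaf ⟶ Coh.toAb (CohB1.tensorMod D.sheaf Ω') :=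
  tA (D.π ≫ Φ ≫ tM ι)

include hι in
theorem exists_shift (hE : FlatMod.IsFinLocFree E) (c₀ c : DefoSh.DefoConn δ nabla D) :
    ∃ Φ : E ⟶ CohB1.tensorMod E Ω', c.conn - c₀.conn = shiftBy D ι Φ := by
  haveI := epi_π D
  have hS := seq_shortExact D hι
  have w : tM (Ω' := Ω') ι ≫ tM D.π = 0 := by rw [← tM_comp, ι_π D hι, tM_zero]
  have hT := tensor_seq D hι hE w
  haveI := hT.mono_f
  let d := linHom (c.conn - c₀.conn) (fun U t e => by
    show secApp c.conn U (t • e) - secApp c₀.conn U (t • e) = t • (secApp c.conn U e - secApp c₀.conn U e)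
    rw [c.isConn U t e, c₀.isConn U t e, smul_sub]
    abel)
  have hd : tA d = c.conn - c₀.conn := map_linHom _ _
  have h1 : d ≫ tM D.π = 0 := by
    apply T_inj
    rw [T_comp, hd, T_zero, Preadditive.sub_comp, ← (horiz_iff D.π).1 c.π_horizontal,
      ← (horiz_iff D.π).1 c₀.π_horizontal, sub_self]
  obtain ⟨e, he⟩ := KernelFork.IsLimit.lift' hT.fIsKernel d h1
  have he' : e ≫ tM ι = d := he
  have h2 : ι ≫ e = 0 := by
    rw [← cancel_mono (tM (Ω' := Ω') ι), Category.assoc, he', zero_comp]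
    apply T_inj
    rw [T_comp, hd, Preadditive.comp_sub, ι_horizontal D hι c, ι_horizontal D hι c₀, sub_self,
      T_zero]
  obtain ⟨Φ, hΦ⟩ := CokernelCofork.IsColimit.desc' hS.gIsCokernel e h2
  have hΦ' : D.π ≫ Φ = e := hΦ
  refine ⟨Φ, ?_⟩
  rw [← hd]
  show tA d = tA (D.π ≫ Φ ≫ tM ι)
  exact congrArg tA (by rw [reassoc_of% hΦ', he'])

include hι in
theorem shiftBy_injective (hE : FlatMod.IsFinLocFree E) : Function.Injective (shiftBy (Ω' := Ω') D ι) := by
  intro a b h
  haveI := epi_π D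
  have w : tM (Ω' := Ω') ι ≫ tM D.π = 0 := by rw [← tM_comp, ι_π D hι, tM_zero]
  haveI := (tensor_seq D hι hE w).mono_f
  exact (cancel_mono _).1 ((cancel_epi D.π).1 (T_inj h))

include hι in
/-- Translate a deformation of the connection. -/
theorem exists_translate (c₀ : DefoSh.DefoConn δ nabla D) (Φ : E ⟶ CohB1.tensorMod E Ω') :
    ∃ c : DefoSh.DefoConn δ nabla D, c.conn - c₀.conn = shiftBy D ι Φ := by
  let d : D.sheaf ⟶ CohB1.tensorMod D.sheaf Ω' := D.π ≫ Φ ≫ tM ι
  let n' := c₀.conn + tA d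
  have hconn : IsConn δ D.sheaf n' := fun U t e => by
    show secApp c₀.conn U (t • e) + secApp (tA d) U (t • e) = t • (secApp c₀.conn U e + secApp (tA d) U e) + _
    rw [c₀.isConn U t e, smul_add, show secApp (tA d) U (t • e) = t • secApp (tA d) U e from
      Scheme.Modules.Hom.app_smul d t e]
    abel
  have hπ : IsHorizontal n' nabla D.π := by
    rw [horiz_iff, Preadditive.add_comp, ← (horiz_iff D.π).1 c₀.π_horizontal, ← T_comp,
      show d ≫ tM D.π = 0 by simp only [d, Category.assoc, ← tM_comp, ι_π D hι, tM_zero, comp_zero],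
      T_zero, add_zero]
  have hε : IsHorizontal n' n' (epsHom D) := by
    rw [horiz_iff, Preadditive.add_comp, Preadditive.comp_add, ← (horiz_iff (epsHom D)).1 (c₀.act_horizontal _),
      ← T_comp, ← T_comp]
    congr 2
    simp only [d, Category.assoc, ← tM_comp, ← hι, reassoc_of% (ι_π D hι), tM_zero, zero_comp, comp_zero]
  refine ⟨{ conn := n', isConn := hconn, act_horizontal := fun z => ?_, π_horizontal := hπ }, add_sub_cancel_left _ _⟩
  refine Eq.mp (congrArg (IsHorizontal n' n') (act_eq D z).symm) ?_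
  exact horiz_add (horiz_smul δ hconn _ (horiz_id _ _)) (horiz_smul δ hconn _ hε)

include hι in
/-- The deformations of a connection form a torsor under `Hom(E, E ⊗ Ω)`. -/
theorem exists_equiv (hE : FlatMod.IsFinLocFree E) (c₀ : DefoSh.DefoConn δ nabla D) :
    ∃ Φ : DefoSh.DefoConn δ nabla D ≃ (E ⟶ CohB1.tensorMod E Ω'),
      ∀ c : DefoSh.DefoConn δ nabla D, c.conn - c₀.conn = shiftBy D ι (Φ c) := by
  choose F hF using exists_shift D hι hE c₀
  choose G hG using exists_translate D hι c₀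
  refine ⟨⟨F, G, fun c => ?_, fun a => ?_⟩, hF⟩
  · have h := (hG (F c)).trans (hF c).symm
    have hc : (G (F c)).conn = c.conn := sub_left_injective h
    cases c; cases hg : G (F _); simp_all
  · exact shiftBy_injective D hι hE ((hF (G a)).symm.trans (hG a))

include hι in
/-- Transport classes. -/
theorem transport_iff (c c' : DefoSh.DefoConn δ nabla D) :
    DefoSh.DefoConn.Transport c c' ↔ ∃ S : E ⟶ E,
      c'.conn - c.conn = tA D.π ≫
        (nabla ≫ tA (tM S) - tA S ≫ nabla) ≫ tA (tM ι) := by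
  haveI := epi_π D
  have hS := seq_shortExact D hι
  haveI : Mono ι := hS.mono_f
  have key : ∀ S : E ⟶ E, IsHorizontal c.conn c'.conn (𝟙 D.sheaf + D.π ≫ S ≫ ι) ↔
      c'.conn - c.conn = tA D.π ≫
        (nabla ≫ tA (tM S) - tA S ≫ nabla) ≫ tA (tM ι) := by
    intro S
    rw [horiz_iff, T_add, T_id, Preadditive.add_comp, Category.id_comp,
      tM_add, T_add, Preadditive.comp_add]
    have a1 : tA (D.π ≫ S ≫ ι) ≫ c'.conn = tA D.π ≫ tA S ≫ nabla ≫ tA (tM ι) := by
      simp only [T_comp, Category.assoc, ι_horizontal D hι c']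
    have a2 : c.conn ≫ tA (tM (D.π ≫ S ≫ ι)) = tA D.π ≫ nabla ≫ tA (tM S) ≫ tA (tM ι) := by
      rw [tM_comp, tM_comp, T_comp, T_comp, ← Category.assoc,
        ← (horiz_iff D.π).1 c.π_horizontal, Category.assoc]
    rw [a1, a2, show tM (Ω' := Ω') (𝟙 D.sheaf) = 𝟙 _ from KoszTw.tensorMap_id _ _,
      T_id]
    simp only [Category.comp_id, Preadditive.sub_comp, Preadditive.comp_sub, Category.assoc]
    constructor
    · intro h
      rw [eq_sub_iff_add_eq, sub_add_eq_add_sub, sub_eq_iff_eq_add']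
      exact h
    · intro h
      rw [eq_sub_iff_add_eq, sub_add_eq_add_sub, sub_eq_iff_eq_add'] at h
      exact h
  constructor
  · rintro ⟨e, he⟩
    have h1 : (e.iso.hom - 𝟙 D.sheaf) ≫ D.π = 0 := by
      rw [Preadditive.sub_comp, e.hom_π, Category.id_comp, sub_self]
    obtain ⟨f, hf⟩ := KernelFork.IsLimit.lift' hS.fIsKernel _ h1
    have hf' : f ≫ ι = e.iso.hom - 𝟙 D.sheaf := hf
    have h2 : ι ≫ f = 0 := by
      rw [← cancel_epi D.π, ← cancel_mono ι, Category.assoc, Category.assoc, hf', ← Category.assoc, hι,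
        Preadditive.comp_sub, Category.comp_id, comp_zero, zero_comp, sub_eq_zero]
      have h3 : epsHom D ≫ e.iso.hom = e.iso.hom ≫ epsHom D := e.act_hom _
      rw [h3, ← hι, reassoc_of% e.hom_π]
    obtain ⟨S, hS'⟩ := CokernelCofork.IsColimit.desc' hS.gIsCokernel f h2
    have hS'' : D.π ≫ S = f := hS'
    refine ⟨S, (key S).1 ?_⟩
    rwa [show 𝟙 D.sheaf + D.π ≫ S ≫ ι = e.iso.hom by rw [← Category.assoc, hS'', hf', add_sub_cancel]]
  · rintro ⟨S, hS'⟩
    let s : D.sheaf ⟶ D.sheaf := D.π ≫ S ≫ ι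
    have hss : s ≫ s = 0 := by
      simp only [s, Category.assoc, reassoc_of% (ι_π D hι), zero_comp, comp_zero]
    have hsε : s ≫ epsHom D = 0 ∧ epsHom D ≫ s = 0 := by
      constructor
      · simp only [s, ← hι, Category.assoc, reassoc_of% (ι_π D hι), zero_comp, comp_zero]
      · simp only [s, reassoc_of% (eps_π D), zero_comp]
    let i : D.sheaf ≅ D.sheaf :=
      { hom := 𝟙 _ + s, inv := 𝟙 _ - s
        hom_inv_id := by simp [Preadditive.comp_sub, Preadditive.add_comp, hss]
        inv_hom_id := by simp [Preadditive.comp_add, Preadditive.sub_comp, hss] }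
    refine ⟨⟨i, fun a => ?_, ?_⟩, (key S).2 hS'⟩
    · rw [act_eq D a]
      show _ ≫ (𝟙 _ + s) = (𝟙 _ + s) ≫ _
      simp only [Preadditive.comp_add, Preadditive.add_comp, Linear.smul_comp, Linear.comp_smul,
        Category.id_comp, Category.comp_id, hsε.1, hsε.2, smul_zero, add_zero, smul_add]
      abel
    · show (𝟙 _ + s) ≫ D.π = D.π
      simp [Preadditive.add_comp, s, ι_π D hι]

end DefoConnLib
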