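import Groth.Prelude.Def_DefoSh2
import Groth.Prelude.Def_DefoConn
import Groth.Prelude.Def_KoszTw
import Groth.Prelude.Def_ConnSh
import Groth.Prelude.Def_Omega3

/-!
The trivial deformation of a connection.
-/

set_option autoImplicit false

noncomputable section

universe u

open CategoryTheory CategoryTheory.Limits AlgebraicGeometry Opposite ConnSh TopologicalSpace
open scoped TensorProduct

namespace DefoConnLib

variable {k : Type u} [Field k] {X : Scheme.{u}} [X.Over (Spec (CommRingCat.of k))]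

/-- Maps out of a tensor product agreeing on pure tensors are equal. -/
theorem hom_ext_tmul {M N T : X.Modules} (φ ψ : CohB1.tensorMod M N ⟶ T)
    (h : ∀ (U : X.Opens) (m : Γ(M, U)) (n : Γ(N, U)),
      φ.app U (SecTwist.tmul M N U m n) = ψ.app U (SecTwist.tmul M N U m n)) : φ = ψ := by
  apply ((PresheafOfModules.sheafificationAdjunction (𝟙 X.ringCatSheaf.obj)).homEquiv _ _).injective
  refine PresheafOfModules.hom_ext fun U => ?_
  refine ModuleCat.hom_ext (LinearMap.ext fun x => ?_)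
  induction x using TensorProduct.induction_on with
  | zero => exact (map_zero _).trans (map_zero _).symm
  | tmul m n => exact h U.unop m n
  | add a b ha hb => exact (map_add _ _ _).trans ((congrArg₂ (· + ·) ha hb).trans (map_add _ _ _).symm)

theorem tmul_add' (M N : X.Modules) (U : X.Opens) (a b : Γ(M, U)) (n : Γ(N, U)) :
    SecTwist.tmul M N U (a + b) n = (SecTwist.tmul M N U a n + SecTwist.tmul M N U b n : Γ(CohB1.tensorMod M N, U)) := by
  refine Eq.trans (congrArg (fun z => ((SecTwist.toTensor M N).app (op U)).hom z)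
    (TensorProduct.add_tmul (R := Γ(X, U)) (M := Γ(M, U)) (N := Γ(N, U)) a b n)) ?_
  exact map_add _ _ _

theorem tmul_smul' (M N : X.Modules) (U : X.Opens) (t : Γ(X, U)) (a : Γ(M, U)) (n : Γ(N, U)) :
    SecTwist.tmul M N U (t • a : Γ(M, U)) n = (t • (SecTwist.tmul M N U a n : Γ(CohB1.tensorMod M N, U))) := by
  have h : (t • a) ⊗ₜ[Γ(X, U)] n = t • (a ⊗ₜ[Γ(X, U)] n) := (TensorProduct.smul_tmul' t a n).symm
  refine Eq.trans (congrArg (fun z : TensorProduct Γ(X, U) Γ(M, U) Γ(N, U) => ((SecTwist.toTensor M N).app (op U)).hom z) h) ?_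
  exact ((SecTwist.toTensor M N).app (op U)).hom.map_smul t _

theorem tmul_zero' (M N : X.Modules) (U : X.Opens) (a : Γ(M, U)) :
    SecTwist.tmul M N U a (0 : Γ(N, U)) = (0 : Γ(CohB1.tensorMod M N, U)) := by
  refine Eq.trans (congrArg (fun z => ((SecTwist.toTensor M N).app (op U)).hom z)
    (TensorProduct.tmul_zero (R := Γ(X, U)) (M := Γ(M, U)) (N := Γ(N, U)) a)) ?_
  exact map_zero _

theorem secApp_comp {A B C : X.Modules} (f : Coh.toAb A ⟶ Coh.toAb B) (g : Coh.toAb B ⟶ Coh.toAb C)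
    (U : X.Opens) (x : A.val.obj (op U)) : secApp (f ≫ g) U x = secApp g U (secApp f U x) := rfl

theorem tensorMap_add_left {M M' N : X.Modules} (f g : M ⟶ M') :
    KoszTw.tensorMap (f + g) (𝟙 N) = KoszTw.tensorMap f (𝟙 N) + KoszTw.tensorMap g (𝟙 N) :=
  hom_ext_tmul _ _ fun U m n => by
    rw [KoszTw.tensorMap_tmul]
    show SecTwist.tmul M' N U (f.app U m + g.app U m) _ =
      (KoszTw.tensorMap f (𝟙 N)).app U (SecTwist.tmul M N U m n) + (KoszTw.tensorMap g (𝟙 N)).app U (SecTwist.tmul M N U m n)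
    rw [KoszTw.tensorMap_tmul, KoszTw.tensorMap_tmul]
    exact tmul_add' _ _ U _ _ _

theorem tensorMap_smul_left {M M' N : X.Modules} (a : k) (f : M ⟶ M') :
    KoszTw.tensorMap (a • f) (𝟙 N) = a • KoszTw.tensorMap f (𝟙 N) :=
  hom_ext_tmul _ _ fun U m n => by
    refine (KoszTw.tensorMap_tmul _ _ U m n).trans ?_
    refine (congrArg (fun z => SecTwist.tmul M' N U z _) (KLin.smul_app_apply a f U m)).trans ?_
    refine (tmul_smul' _ _ U _ _ _).trans ?_
    exact ((KLin.smul_app_apply a (KoszTw.tensorMap f (𝟙 N)) U _).trans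
      (congrArg _ (KoszTw.tensorMap_tmul f (𝟙 N) U m n))).symm

variable {Ω' : X.Modules} (δ : OmegaSh.Der (X ↘ Spec (CommRingCat.of k)) Ω')

omit Ω' in
theorem der_const {Ω : X.Modules} (δ : OmegaSh.Der (X ↘ Spec (CommRingCat.of k)) Ω) (a : k) (U : X.Opens) :
    δ.app U (X.presheaf.map (homOfLE (le_top : U ≤ ⊤)).op (Coh.toGlobal (X ↘ Spec (CommRingCat.of k)) a)) = 0 := by
  refine (δ.d_map (homOfLE (le_top : U ≤ ⊤)).op _).trans ?_
  have h : δ.d (X := op (⊤ : X.Opens)) (Coh.toGlobal (X ↘ Spec (CommRingCat.of k)) a) = 0 :=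
    δ.d_app (X := op (⊤ : (Spec (CommRingCat.of k)).Opens)) _
  exact (congrArg _ h).trans (map_zero _)

variable {E E' : X.Modules} {n : Coh.toAb E ⟶ Coh.toAb (CohB1.tensorMod E Ω')}
  {n' : Coh.toAb E' ⟶ Coh.toAb (CohB1.tensorMod E' Ω')}

theorem horiz_add {φ ψ : E ⟶ E'} (hφ : IsHorizontal n n' φ) (hψ : IsHorizontal n n' ψ) :
    IsHorizontal n n' (φ + ψ) := fun U e => by
  rw [tensorMap_add_left]
  exact (map_add (secApp n' U) (φ.app U e) (ψ.app U e)).trans (congrArg₂ (· + ·) (hφ U e) (hψ U e))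

theorem horiz_smul (hn' : IsConn δ E' n') (a : k) {φ : E ⟶ E'} (hφ : IsHorizontal n n' φ) :
    IsHorizontal n n' (a • φ) := fun U e => by
  rw [tensorMap_smul_left]
  refine Eq.trans (congrArg (secApp n' U) (KLin.smul_app_apply a φ U e)) ?_
  refine Eq.trans (hn' U _ _) ?_
  refine Eq.trans (congrArg₂ (· + ·) (congrArg _ (hφ U e))
    ((congrArg (SecTwist.tmul E' Ω' U _) (der_const δ a U)).trans (tmul_zero' E' Ω' U _))) ?_
  exact (add_zero _).trans (KLin.smul_app_apply a (KoszTw.tensorMap φ (𝟙 Ω')) U _).symm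

variable (n) in
/-- The sum connection. -/
def sumConn : Coh.toAb (E ⊞ E) ⟶ Coh.toAb (CohB1.tensorMod (E ⊞ E) Ω') :=
  (SheafOfModules.toSheaf X.ringCatSheaf).map (biprod.fst : E ⊞ E ⟶ E) ≫ n ≫ (SheafOfModules.toSheaf X.ringCatSheaf).map (KoszTw.tensorMap (biprod.inl : E ⟶ E ⊞ E) (𝟙 Ω')) +
  (SheafOfModules.toSheaf X.ringCatSheaf).map (biprod.snd : E ⊞ E ⟶ E) ≫ n ≫ (SheafOfModules.toSheaf X.ringCatSheaf).map (KoszTw.tensorMap (biprod.inr : E ⟶ E ⊞ E) (𝟙 Ω'))

variable (n) in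
theorem sumConn_apply (U : X.Opens) (e : (E ⊞ E).val.obj (op U)) : secApp (sumConn n) U e =
    (KoszTw.tensorMap (biprod.inl : E ⟶ E ⊞ E) (𝟙 Ω')).app U (secApp n U ((biprod.fst : E ⊞ E ⟶ E).app U e)) +
    (KoszTw.tensorMap (biprod.inr : E ⟶ E ⊞ E) (𝟙 Ω')).app U (secApp n U ((biprod.snd : E ⊞ E ⟶ E).app U e)) :=
  rfl

theorem isConn_sum (hn : IsConn δ E n) : IsConn δ (E ⊞ E) (sumConn n) := fun U t e => by
  have ht : ∀ (f : E ⊞ E ⟶ E) (g : E ⟶ E ⊞ E),
      (KoszTw.tensorMap g (𝟙 Ω')).app U (secApp n U (f.app U (t • e))) =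
      t • (KoszTw.tensorMap g (𝟙 Ω')).app U (secApp n U (f.app U e)) +
        (show Γ(CohB1.tensorMod (E ⊞ E) Ω', U) from SecTwist.tmul (E ⊞ E) Ω' U ((f ≫ g).app U e) (δ.app U t)) := fun f g => by
    refine Eq.trans (congrArg (fun z => (KoszTw.tensorMap g (𝟙 Ω')).app U (secApp n U z)) (Scheme.Modules.Hom.app_smul f t e)) ?_
    refine Eq.trans (congrArg (fun z => (KoszTw.tensorMap g (𝟙 Ω')).app U z) (hn U t _)) ?_
    refine Eq.trans (map_add _ _ _) (congrArg₂ (· + ·) (Scheme.Modules.Hom.app_smul _ t _) ?_)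
    exact KoszTw.tensorMap_tmul g (𝟙 Ω') U _ _
  have htot : (biprod.fst ≫ biprod.inl : E ⊞ E ⟶ E ⊞ E).app U e + (biprod.snd ≫ biprod.inr : E ⊞ E ⟶ E ⊞ E).app U e = e := by
    show ((biprod.fst ≫ biprod.inl + biprod.snd ≫ biprod.inr : E ⊞ E ⟶ E ⊞ E)).app U e = e
    rw [biprod.total]
    rfl
  refine Eq.trans (sumConn_apply n U _) ?_
  refine Eq.trans (congrArg₂ (· + ·) (ht biprod.fst biprod.inl) (ht biprod.snd biprod.inr)) ?_
  refine Eq.trans (add_add_add_comm _ _ _ _) ?_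
  refine congrArg₂ (· + ·) ((congrArg _ (sumConn_apply n U e)).trans (smul_add t _ _)).symm ?_
  exact (tmul_add' _ _ U _ _ _).symm.trans (congrArg (fun z => SecTwist.tmul (E ⊞ E) Ω' U z _) htot)

theorem horiz_comp {A B : X.Modules} {a : Coh.toAb A ⟶ Coh.toAb (CohB1.tensorMod A Ω')}
    {b : Coh.toAb B ⟶ Coh.toAb (CohB1.tensorMod B Ω')} {φ : E ⟶ A} {ψ : A ⟶ B}
    (hφ : IsHorizontal n a φ) (hψ : IsHorizontal a b ψ) : IsHorizontal n b (φ ≫ ψ) := fun U e => by
  refine Eq.trans (hψ U (φ.app U e)) (Eq.trans (congrArg _ (hφ U e)) ?_)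
  rw [show KoszTw.tensorMap (φ ≫ ψ) (𝟙 Ω') =
    KoszTw.tensorMap φ (𝟙 Ω') ≫ KoszTw.tensorMap ψ (𝟙 Ω') from by
      rw [← KoszTw.tensorMap_comp, Category.comp_id]]
  rfl

theorem app_of_comp {A B C : X.Modules} {f : A ⟶ B} {g : B ⟶ C} {h : A ⟶ C} (e : f ≫ g = h) (U : X.Opens)
    (x : Γ(A, U)) : g.app U (f.app U x) = h.app U x := by
  rw [← e]
  rfl

theorem tensorMap_zero_left {M M' N : X.Modules} :
    KoszTw.tensorMap (0 : M ⟶ M') (𝟙 N) = 0 := by
  have h := tensorMap_add_left (N := N) (0 : M ⟶ M') 0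
  rw [add_zero] at h
  exact left_eq_add.mp h

theorem horiz_inr : IsHorizontal n (sumConn n) (biprod.inr : E ⟶ E ⊞ E) := fun U e => by
  refine Eq.trans (sumConn_apply n U _) ?_
  refine Eq.trans (congrArg₂ (· + ·)
    ((congrArg (fun z => (KoszTw.tensorMap (biprod.inl : E ⟶ E ⊞ E) (𝟙 Ω')).app U (secApp n U z))
      (app_of_comp biprod.inr_fst U e)).trans
        ((congrArg _ (map_zero (secApp n U))).trans (map_zero _)))
    (congrArg (fun z => (KoszTw.tensorMap (biprod.inr : E ⟶ E ⊞ E) (𝟙 Ω')).app U (secApp n U z))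
      (app_of_comp biprod.inr_snd U e))) (zero_add _)

theorem horiz_fst : IsHorizontal (sumConn n) n (biprod.fst : E ⊞ E ⟶ E) := fun U e => by
  have h1 : KoszTw.tensorMap (biprod.inl : E ⟶ E ⊞ E) (𝟙 Ω') ≫
      KoszTw.tensorMap biprod.fst (𝟙 Ω') = 𝟙 _ := by
    rw [← KoszTw.tensorMap_comp, biprod.inl_fst, Category.comp_id, KoszTw.tensorMap_id]
  have h2 : KoszTw.tensorMap (biprod.inr : E ⟶ E ⊞ E) (𝟙 Ω') ≫
      KoszTw.tensorMap biprod.fst (𝟙 Ω') = 0 := by
    rw [← KoszTw.tensorMap_comp, biprod.inr_fst, Category.comp_id, tensorMap_zero_left]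
  refine Eq.symm (Eq.trans (congrArg _ (sumConn_apply n U e)) ?_)
  refine Eq.trans (map_add _ _ _) ?_
  exact (congrArg₂ (· + ·) (app_of_comp h1 U _) (app_of_comp h2 U _)).trans (add_zero _)

theorem horiz_id (A : X.Modules) (a : Coh.toAb A ⟶ Coh.toAb (CohB1.tensorMod A Ω')) : IsHorizontal a a (𝟙 A) :=
  fun U e => by
    rw [KoszTw.tensorMap_id]
    rfl

theorem nonempty_defoConn_trivDual (hn : IsConn δ E n) :
    Nonempty (DefoSh.DefoConn δ n (DefoSh.Defo.trivDual k E)) :=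
  ⟨{ conn := sumConn n
     isConn := isConn_sum δ hn
     act_horizontal := fun z => by
       refine Eq.mp (congrArg (IsHorizontal (sumConn n) (sumConn n)) (DefoSh.dualAct_hom E z).symm) ?_
       exact horiz_add (horiz_smul δ (isConn_sum δ hn) _ (horiz_id _ _))
         (horiz_smul δ (isConn_sum δ hn) _ (horiz_comp horiz_fst horiz_inr))
     π_horizontal := horiz_fst }⟩

end DefoConnLib
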